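import Groth.Agent.FormCat.HenselDomain
import Mathlib

/-!
# Adjoining `p`-th roots to unramified finite extensions of a henselian DVR
-/

set_option linter.style.haveILetI false

namespace Groth.Agent.H4PerfRes

universe u

open IsLocalRing Polynomial

variable {R A : Type u} [CommRing R] [IsDomain R] [IsDiscreteValuationRing R] [HenselianLocalRing R]
  [CommRing A] [IsDomain A] [Algebra R A] [FaithfulSMul R A]

/-- A finite unramified extension with purely inseparable residue extension. -/
structure Good (π : R) (p : ℕ) (S : Subalgebra R A) : Prop where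
  finite : Module.Finite R S
  local_ : IsLocalRing S
  max : ∀ x : S, ¬ IsUnit x → algebraMap R S π ∣ x
  insep : ∀ x : S, ∃ (n : ℕ) (r : R), algebraMap R S π ∣ algebraMap R S r - x ^ (p ^ n)
  rank : ∃ m, Module.finrank R S = p ^ m

omit [IsDomain A] [IsDiscreteValuationRing R] [HenselianLocalRing R] [FaithfulSMul R A] in
theorem not_isUnit_pi {π : R} (hπ : ¬ IsUnit π) [FaithfulSMul R A] {S : Subalgebra R A}
    [Algebra.IsIntegral R S] : ¬ IsUnit (algebraMap R S π) := fun h => by
  haveI : FaithfulSMul R S := (faithfulSMul_iff_algebraMap_injective R S).mpr fun a b e =>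
    FaithfulSMul.algebraMap_injective R A (congrArg Subtype.val e)
  haveI := Algebra.IsIntegral.isLocalHom R S
  exact hπ (isUnit_of_map_unit (algebraMap R S) π h)

theorem good_bot {π : R} (hπ : Irreducible π) (p : ℕ) : Good π p (⊥ : Subalgebra R A) := by
  let e : R ≃ₐ[R] (⊥ : Subalgebra R A) :=
    (Algebra.botEquivOfInjective (FaithfulSMul.algebraMap_injective R A)).symm
  refine ⟨Module.Finite.equiv e.toLinearEquiv, e.toRingEquiv.isLocalRing, fun x hx => ?_,
    fun x => ⟨0, e.symm x, ?_⟩, ⟨0, ?_⟩⟩
  · obtain ⟨r, rfl⟩ := e.surjective x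
    have hr : r ∈ maximalIdeal R := (mem_maximalIdeal _).mpr fun h => hx (h.map e)
    rw [hπ.maximalIdeal_eq, Ideal.mem_span_singleton'] at hr
    obtain ⟨s, rfl⟩ := hr
    exact ⟨e s, by rw [map_mul, ← e.commutes π, Algebra.algebraMap_self_apply, mul_comm]⟩
  · rw [pow_zero, pow_one, ← e.commutes (e.symm x), Algebra.algebraMap_self_apply,
      AlgEquiv.apply_symm_apply, sub_self]
    exact dvd_zero _
  · rw [← e.toLinearEquiv.finrank_eq, Module.finrank_self, pow_zero]

/-- The step: adjoining a `p`-th root of a unit whose residue is not a `p`-th power. -/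
theorem good_adjoin {π : R} (hπ : Irreducible π) {p : ℕ} (hp : p.Prime)
    (hchar : CharP (ResidueField R) p) {S : Subalgebra R A} (hS : Good π p S) (y : S)
    (hy : ∀ w : S, ¬ algebraMap R S π ∣ w ^ p - y) (z : A) (hz : z ^ p = (y : A)) :
    Good π p ((Algebra.adjoin S {z}).restrictScalars R) := by
  classical
  haveI := hS.finite
  haveI := hS.local_
  haveI := hchar
  haveI : Fact p.Prime := ⟨hp⟩
  haveI : IsNoetherianRing S := IsNoetherianRing.of_finite R S
  have hzint : IsIntegral S z := ⟨X ^ p - C y, monic_X_pow_sub_C _ hp.ne_zero, by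
    rw [eval₂_sub, eval₂_X_pow, eval₂_C, hz]
    exact sub_self _⟩
  let T := Algebra.adjoin S ({z} : Set A)
  haveI : Module.Finite S T :=
    Module.Finite.iff_fg.mpr (hzint.fg_adjoin_singleton)
  haveI : Module.Finite R T := Module.Finite.trans S T
  haveI : IsLocalRing T := FormCat.isLocalRing_of_finite_domain R T
  let z' : T := ⟨z, Algebra.subset_adjoin rfl⟩
  have hz' : z' ^ p = algebraMap S T y := Subtype.ext hz
  have hinj : Function.Injective (algebraMap S T) := fun a b e =>
    Subtype.ext (congrArg (fun t : T => (t : A)) e)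
  haveI : FaithfulSMul S T := (faithfulSMul_iff_algebraMap_injective S T).mpr hinj
  haveI : IsLocalHom (algebraMap S T) := Algebra.IsIntegral.isLocalHom S T
  haveI : FaithfulSMul R S := (faithfulSMul_iff_algebraMap_injective R S).mpr fun a b e =>
    FaithfulSMul.algebraMap_injective R A (congrArg Subtype.val e)
  haveI : IsLocalHom (algebraMap R S) := Algebra.IsIntegral.isLocalHom R S
  haveI : CharP (ResidueField S) p :=
    charP_of_injective_ringHom (ResidueField.map (algebraMap R S)).injective p
  haveI : CharP (ResidueField T) p :=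
    charP_of_injective_ringHom (ResidueField.map (algebraMap S T)).injective p
  have hπS : ¬ IsUnit (algebraMap R S π) := not_isUnit_pi hπ.not_isUnit
  have hπT : ¬ IsUnit (algebraMap S T (algebraMap R S π)) := fun h => hπS (isUnit_of_map_unit _ _ h)
  -- residues of the powers of `z` are independent
  let zb := residue T z'
  have hzb : zb ^ p = algebraMap (ResidueField S) (ResidueField T) (residue S y) := by
    rw [← map_pow, hz']
    exact (ResidueField.map_residue (algebraMap S T) y).symm
  have hnot : ∀ b : ResidueField S, b ^ p ≠ residue S y := by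
    intro b hb
    obtain ⟨w, rfl⟩ := residue_surjective b
    refine hy w (hS.max _ ?_)
    rw [← mem_nonunits_iff, ← mem_maximalIdeal, ← residue_eq_zero_iff, map_sub, map_pow, hb, sub_self]
  have hmin : minpoly (ResidueField S) zb = X ^ p - C (residue S y) :=
    (minpoly.eq_of_irreducible_of_monic (X_pow_sub_C_irreducible_of_prime hp hnot)
      (by simp [hzb]) (monic_X_pow_sub_C _ hp.ne_zero)).symm
  have hform : ∀ t : T, ∃ P : S[X], P.degree < p ∧ aeval z' P = t := by
    intro t
    have ht : (t : A) ∈ (Polynomial.aeval z : S[X] →ₐ[S] A).range :=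
      Algebra.adjoin_singleton_eq_range_aeval S z ▸ t.2
    obtain ⟨P, hP⟩ := ht
    refine ⟨P %ₘ (X ^ p - C y), ?_, ?_⟩
    · exact (degree_modByMonic_lt _ (monic_X_pow_sub_C y hp.ne_zero)).trans_eq (degree_X_pow_sub_C hp.pos y)
    · rw [aeval_modByMonic_eq_self_of_root (by simp [hz'])]
      exact Subtype.ext ((aeval_algHom_apply T.val z' P).symm.trans hP)
  have hcoeff : ∀ P : S[X], P.degree < p → ¬ IsUnit (aeval z' P) →
      ∀ i, algebraMap R S π ∣ P.coeff i := by
    intro P hP hu i
    refine hS.max _ ?_
    rw [← mem_nonunits_iff, ← mem_maximalIdeal, ← residue_eq_zero_iff, ← coeff_map]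
    suffices h : P.map (residue S) = 0 by rw [h, coeff_zero]
    by_contra hne
    have h0 : aeval zb (P.map (residue S)) = 0 := by
      rw [aeval_def, eval₂_map, show (algebraMap (ResidueField S) (ResidueField T)).comp (residue S) =
        (residue T).comp (algebraMap S T) from RingHom.ext fun s => ResidueField.map_residue _ s,
        ← hom_eval₂, residue_eq_zero_iff, mem_maximalIdeal, mem_nonunits_iff]
      exact hu
    have h1 := minpoly.degree_le_of_ne_zero _ zb hne h0
    rw [hmin, degree_X_pow_sub_C hp.pos] at h1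
    exact absurd (h1.trans (degree_map_le)) (not_le_of_gt hP)
  have hmax : ∀ x : T, ¬ IsUnit x → algebraMap S T (algebraMap R S π) ∣ x := by
    intro x hx
    obtain ⟨P, hP, rfl⟩ := hform x
    rw [aeval_eq_sum_range]
    refine Finset.dvd_sum fun i _ => ?_
    rw [Algebra.smul_def]
    exact (map_dvd (algebraMap S T) (hcoeff P hP hx i)).mul_right _
  -- the powers of `z` form a basis
  have hindep : ∀ P : S[X], P.degree < p → aeval z' P = 0 → P = 0 := by
    intro P hP h0
    have key : ∀ n : ℕ, ∀ Q : S[X], Q.degree < p → aeval z' Q = 0 →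
        ∀ i, Q.coeff i ∈ maximalIdeal S ^ n := by
      intro n
      induction n with
      | zero => intro Q _ _ i; simp
      | succ n ih =>
        intro Q hQ hQ0 i
        obtain ⟨Q', rfl⟩ : ∃ Q' : S[X], Q = C (algebraMap R S π) * Q' :=
          (Polynomial.C_dvd_iff_dvd_coeff _ _).mpr (hcoeff Q hQ (by rw [hQ0]; exact not_isUnit_zero))
        have hπ0 : algebraMap R S π ≠ 0 :=
          (map_ne_zero_iff _ (FaithfulSMul.algebraMap_injective R S)).mpr hπ.ne_zero
        rw [coeff_C_mul, pow_succ']
        refine Ideal.mul_mem_mul ((mem_maximalIdeal _).mpr hπS) (ih Q' ?_ ?_ i)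
        · rwa [degree_C_mul hπ0] at hQ
        · rw [map_mul, aeval_C] at hQ0
          exact (mul_eq_zero.mp hQ0).resolve_left
            ((map_ne_zero_iff _ hinj).mpr hπ0)
    refine Polynomial.ext fun i => ?_
    rw [coeff_zero]
    have : P.coeff i ∈ ⨅ n, maximalIdeal S ^ n := Ideal.mem_iInf.mpr fun n => key n P hP h0 i
    rwa [Ideal.iInf_pow_eq_bot_of_isLocalRing _ (maximalIdeal.isMaximal S).ne_top, Ideal.mem_bot] at this
  let v : Fin p → T := fun i => z' ^ (i : ℕ)
  have hli : LinearIndependent S v := by
    rw [Fintype.linearIndependent_iff]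
    intro g hg i
    let P : S[X] := ∑ i : Fin p, C (g i) * X ^ (i : ℕ)
    have hP : P.degree < p := degree_sum_fin_lt g
    have h0 : aeval z' P = 0 := by
      rw [← hg, map_sum]
      exact Finset.sum_congr rfl fun j _ => by simp [v, Algebra.smul_def]
    have := congrArg (fun Q : S[X] => Q.coeff i) (hindep P hP h0)
    simpa [P, finset_sum_coeff, coeff_C_mul, coeff_X_pow, Fin.val_inj] using this
  have hspan : ⊤ ≤ Submodule.span S (Set.range v) := by
    intro t _
    obtain ⟨P, hP, rfl⟩ := hform t
    rcases eq_or_ne P 0 with rfl | hne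
    · simp
    rw [aeval_eq_sum_range' (n := p) ((natDegree_lt_iff_degree_lt hne).mpr hP)]
    exact Submodule.sum_mem _ fun i hi => Submodule.smul_mem _ _
      (Submodule.subset_span ⟨⟨i, Finset.mem_range.mp hi⟩, rfl⟩)
  let b : Module.Basis (Fin p) S T := Module.Basis.mk hli hspan
  haveI : Module.Free S T := Module.Free.of_basis b
  haveI : Module.IsTorsionFree R S := inferInstance
  haveI : Module.Free R S := inferInstance
  have hrank : Module.finrank R T = Module.finrank R S * p := by
    rw [← Module.finrank_mul_finrank R S T, Module.finrank_eq_card_basis b, Fintype.card_fin]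
  refine ⟨inferInstanceAs (Module.Finite R T), inferInstanceAs (IsLocalRing T), ?_, ?_, ?_⟩
  · intro x hx
    exact hmax x hx
  · intro (x : T)
    show ∃ (n : ℕ) (r : R), algebraMap S T (algebraMap R S π) ∣ algebraMap S T (algebraMap R S r) - x ^ p ^ n
    obtain ⟨P, -, hPx⟩ := hform x
    let w : S := (residue_surjective ((P.map ((frobenius (ResidueField S) p).comp (residue S))).eval (residue S y))).choose
    have hw : residue S w = (P.map ((frobenius (ResidueField S) p).comp (residue S))).eval (residue S y) :=
      (residue_surjective _).choose_spec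
    obtain ⟨n, r, hr⟩ := hS.insep w
    refine ⟨n + 1, r, ?_⟩
    refine hmax _ fun hu => ?_
    have h1 : residue T (x ^ p) = algebraMap (ResidueField S) (ResidueField T) (residue S w) := by
      rw [hw, ← hPx, map_pow, aeval_def, hom_eval₂, ← frobenius_def, hom_eval₂, frobenius_def, hzb,
        eval_map, hom_eval₂]
      congr 1
    have h2 : residue S (algebraMap R S r - w ^ (p ^ n)) = 0 :=
      (residue_eq_zero_iff _).mpr ((mem_maximalIdeal _).mpr fun h => hπS (isUnit_of_dvd_unit hr h))
    refine (mem_maximalIdeal _).mp ((residue_eq_zero_iff _).mp ?_) hu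
    show residue T (algebraMap S T (algebraMap R S r) - x ^ p ^ (n + 1)) = 0
    rw [map_sub, map_pow, pow_succ', pow_mul, ← map_pow, h1, ← map_pow,
      show residue T (algebraMap S T (algebraMap R S r)) = algebraMap _ _ (residue S (algebraMap R S r))
        from (ResidueField.map_residue _ _).symm, ← map_sub, ← map_pow, ← map_sub, h2, map_zero]
  · obtain ⟨m, hm⟩ := hS.rank
    refine ⟨m + 1, ?_⟩
    show Module.finrank R T = _
    rw [hrank, hm, pow_succ]

end Groth.Agent.H4PerfRes
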