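import Groth.Agent.H4PerfRes.Basic
import Groth.Agent.Hensel.IntegralStrict

/-!
# The extension with perfect residue field
-/

set_option linter.style.haveILetI false

namespace Groth.Agent.H4PerfRes

universe u

open scoped Classical

variable {R A : Type u} [CommRing R] [CommRing A] [Algebra R A]

theorem coe_mem_adjoin {S : Subalgebra R A} (U : Subalgebra S A) (a : A) (ha : a ∈ S) : a ∈ U :=
  U.algebraMap_mem ⟨a, ha⟩
theorem aeval_mem_adjoin_of_coeff {S T : Subalgebra R A} (z : A) (Q : Polynomial T)
    (h : ∀ i, ((Q.coeff i : T) : A) ∈ S) :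
    Polynomial.aeval z Q ∈ (Algebra.adjoin S ({z} : Set A)).restrictScalars R := by
  have h1 : Polynomial.aeval z Q = ∑ i ∈ Finset.range (Q.natDegree + 1), (Q.coeff i : A) * z ^ i := by
    rw [Polynomial.aeval_def, Polynomial.eval₂_eq_sum_range]
    rfl
  rw [Subalgebra.mem_restrictScalars, h1]
  refine Subalgebra.sum_mem _ fun i _ => Subalgebra.mul_mem _ ?_ ?_
  · exact coe_mem_adjoin _ _ (h i)

  · exact Subalgebra.pow_mem _ (Algebra.self_mem_adjoin_singleton S z) i

theorem adjoin_singleton_mono {S T : Subalgebra R A} (hST : S ≤ T) (z : A) :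
    (Algebra.adjoin S ({z} : Set A)).restrictScalars R ≤ (Algebra.adjoin T ({z} : Set A)).restrictScalars R := by
  intro a ha
  rw [Subalgebra.mem_restrictScalars, Algebra.adjoin_singleton_eq_range_aeval] at ha
  obtain ⟨Q, rfl⟩ := ha
  rw [Subalgebra.mem_restrictScalars, Algebra.adjoin_singleton_eq_range_aeval]
  refine ⟨Q.map (Subalgebra.inclusion hST).toRingHom, ?_⟩
  show Polynomial.aeval z _ = Polynomial.aeval z Q
  rw [Polynomial.aeval_def, Polynomial.aeval_def, Polynomial.eval₂_map]
  rfl

theorem exists_perfectClosure_extension [IsDomain R] [IsDiscreteValuationRing R] [HenselianLocalRing R]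
    [IsDomain A] [FaithfulSMul R A] [Algebra.IsIntegral R A]
    (hroot : ∀ n : ℕ, 0 < n → ∀ a : A, ∃ z : A, z ^ n = a) {π : R} (hπ : Irreducible π)
    (p : ℕ) (hpdef : p = ringExpChar (IsLocalRing.ResidueField R)) :
    ∃ (R' : Type u) (_ : CommRing R') (_ : IsDomain R') (_ : IsDiscreteValuationRing R')
      (_ : HenselianLocalRing R') (_ : Algebra R R'),
      Function.Injective (algebraMap R R') ∧
      Ideal.map (algebraMap R R') (IsLocalRing.maximalIdeal R) = IsLocalRing.maximalIdeal R' ∧
      (∀ s : Finset R', ∃ S : Subalgebra R R', (↑s : Set R') ⊆ ↑S ∧ Module.Finite R S ∧ Module.Free R S ∧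
        ∃ m : ℕ, Module.finrank R S = p ^ m) ∧
      (∀ y : R', ∃ z : R', z ^ p - y ∈ IsLocalRing.maximalIdeal R') ∧
      (∀ y : R', ∃ (m : ℕ) (z : R),
        algebraMap R R' z - y ^ (p ^ m) ∈ IsLocalRing.maximalIdeal R') := by
  haveI : ExpChar (IsLocalRing.ResidueField R) p := hpdef ▸ ringExpChar.expChar _
  let F : Set (Subalgebra R A) :=
    {T | ∀ s : Finset A, (s : Set A) ⊆ T → ∃ S : Subalgebra R A, S ≤ T ∧ Good π p S ∧ (s : Set A) ⊆ S}
  have hbot : (⊥ : Subalgebra R A) ∈ F := fun s hs => ⟨⊥, le_rfl, good_bot hπ p, hs⟩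
  obtain ⟨T, hTF, hTmax⟩ : ∃ T ∈ F, ∀ T' ∈ F, T ≤ T' → T' = T := by
    obtain ⟨T, hT⟩ := zorn_le₀ F fun c hc hchain => by
      rcases c.eq_empty_or_nonempty with rfl | hne
      · exact ⟨⊥, hbot, fun _ h => absurd h (Set.notMem_empty _)⟩
      · refine ⟨sSup c, fun s hs => ?_, fun T hT => le_sSup hT⟩
        haveI : Nonempty c := hne.to_subtype
        have hdir : Directed (· ≤ ·) fun T : c => (T : Subalgebra R A) := hchain.directed
        have hcoe : ((sSup c : Subalgebra R A) : Set A) = ⋃ T : c, ((T : Subalgebra R A) : Set A) := by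
          rw [sSup_eq_iSup', Subalgebra.coe_iSup_of_directed hdir]
        rw [hcoe] at hs
        obtain ⟨T, hT⟩ := hdir.exists_mem_subset_of_finset_subset_biUnion hs
        obtain ⟨S, hST, hS, hsS⟩ := hc T.2 s hT
        exact ⟨S, hST.trans (le_sSup T.2), hS, hsS⟩
    exact ⟨T, hT.prop, fun T' hT' hle => le_antisymm (hT.le_of_ge hT' hle) hle⟩
  haveI : Algebra.IsIntegral R T := Algebra.IsIntegral.of_injective T.val Subtype.val_injective
  have hπT : ¬ IsUnit (algebraMap R T π) := not_isUnit_pi hπ.not_isUnit
  -- properties of `T` inherited from the finite stages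
  have key : ∀ x : T, ¬ IsUnit x → algebraMap R T π ∣ x := by
    intro x hx
    obtain ⟨S, hST, hS, hxS⟩ := hTF {(x : A)} (by simp)
    have hxS' : (x : A) ∈ S := hxS (by simp)
    obtain ⟨c, hc⟩ := hS.max ⟨x, hxS'⟩ fun h => hx (h.map (Subalgebra.inclusion hST))
    refine ⟨Subalgebra.inclusion hST c, ?_⟩
    have := congrArg (Subalgebra.inclusion hST) hc
    rw [map_mul, AlgHom.commutes] at this
    exact this
  haveI : IsLocalRing T := by
    refine IsLocalRing.of_nonunits_add fun a b ha hb hu => hπT ?_
    exact isUnit_of_dvd_unit (dvd_add (key a ha) (key b hb)) hu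
  haveI : HenselianLocalRing T := Hensel.henselianLocalRing_of_isIntegral_local R T
  have hmax : IsLocalRing.maximalIdeal T = Ideal.span {algebraMap R T π} := by
    refine le_antisymm (fun x hx => Ideal.mem_span_singleton.mpr (key x hx)) ?_
    rw [Ideal.span_singleton_le_iff_mem]
    exact hπT
  have hπ0 : algebraMap R T π ≠ 0 := fun e => hπ.ne_zero (FaithfulSMul.algebraMap_injective R A
    (by rw [map_zero]; exact congrArg Subtype.val e))
  haveI : IsDiscreteValuationRing T := by
    have hirr : Irreducible (algebraMap R T π) := by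
      refine ⟨hπT, fun a b hab => ?_⟩
      by_contra! hn
      obtain ⟨a', rfl⟩ := key a hn.1
      obtain ⟨b', rfl⟩ := key b hn.2
      have : algebraMap R T π * (algebraMap R T π * (a' * b')) = algebraMap R T π * 1 := by
        rw [mul_one]; conv_rhs => rw [hab]
        ring
      exact hπT (IsUnit.of_mul_eq_one _ (mul_left_cancel₀ hπ0 this))
    refine IsDiscreteValuationRing.ofHasUnitMulPowIrreducibleFactorization ⟨algebraMap R T π, hirr, ?_⟩
    intro x hx
    obtain ⟨S, hST, hS, hxS⟩ := hTF {(x : A)} (by simp)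
    haveI := hS.finite
    haveI := hS.local_
    haveI : IsNoetherianRing S := IsNoetherianRing.of_finite R S
    let x' : S := ⟨x, hxS (by simp)⟩
    have hπS : ¬ IsUnit (algebraMap R S π) := fun h => hπT (by
      simpa using h.map (Subalgebra.inclusion hST))
    obtain ⟨n, hn⟩ : ∃ n, x' ∉ Ideal.span {algebraMap R S π} ^ (n + 1) := by
      by_contra! hall
      have hmem : x' ∈ ⨅ n, Ideal.span {algebraMap R S π} ^ n := Ideal.mem_iInf.mpr fun n =>
        Ideal.pow_le_pow_right n.le_succ (hall n)
      rw [Ideal.iInf_pow_eq_bot_of_isLocalRing _ (fun h => hπS (Ideal.span_singleton_eq_top.mp h)),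
        Ideal.mem_bot] at hmem
      exact hx (Subtype.ext (congrArg Subtype.val hmem :))
    classical
    have hex : ∃ n, x' ∉ Ideal.span {algebraMap R S π} ^ (n + 1) := ⟨n, hn⟩
    have h1 : x' ∈ Ideal.span {algebraMap R S π} ^ Nat.find hex := by
      cases h : Nat.find hex with
      | zero => simp
      | succ m =>
        by_contra hm
        exact Nat.find_min hex (m := m) (by omega) hm
    rw [Ideal.span_singleton_pow, Ideal.mem_span_singleton'] at h1
    obtain ⟨u, hu⟩ := h1
    have huu : IsUnit u := by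
      by_contra hnu
      obtain ⟨v, rfl⟩ := hS.max u hnu
      refine Nat.find_spec hex ?_
      rw [Ideal.span_singleton_pow, Ideal.mem_span_singleton']
      exact ⟨v, (by ring : v * algebraMap R S π ^ (Nat.find hex + 1) =
        algebraMap R S π * v * algebraMap R S π ^ Nat.find hex).trans hu⟩
    refine ⟨Nat.find hex, (huu.map (Subalgebra.inclusion hST)).unit, ?_⟩
    rw [IsUnit.unit_spec]
    have := congrArg (Subalgebra.inclusion hST) hu
    rw [map_mul, map_pow, AlgHom.commutes] at this
    exact (mul_comm _ _).trans this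
  refine ⟨T, inferInstance, inferInstance, inferInstance, inferInstance, inferInstance,
    fun a b e => FaithfulSMul.algebraMap_injective R A (congrArg Subtype.val e),
    by rw [hπ.maximalIdeal_eq, Ideal.map_span, Set.image_singleton, hmax],
    fun s => ?_, fun y => ?_, fun y => ?_⟩
  · obtain ⟨S, hST, hS, hsS⟩ := hTF (s.image Subtype.val) (by
      intro x hx
      obtain ⟨y, -, rfl⟩ := Finset.mem_image.mp (Finset.mem_coe.mp hx)
      exact y.2)
    let e : S ≃ₐ[R] (Subalgebra.inclusion hST).range :=
      AlgEquiv.ofInjective _ (Subalgebra.inclusion_injective hST)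
    haveI := hS.finite
    haveI : Module.Finite R (Subalgebra.inclusion hST).range := Module.Finite.equiv e.toLinearEquiv
    refine ⟨(Subalgebra.inclusion hST).range, fun x hx => ?_, inferInstance, inferInstance, ?_⟩
    · exact ⟨⟨x, hsS (Finset.mem_coe.mpr (Finset.mem_image_of_mem _ hx))⟩, Subtype.ext rfl⟩
    · obtain ⟨m, hm⟩ := hS.rank
      exact ⟨m, by rw [← e.toLinearEquiv.finrank_eq, hm]⟩
  · by_contra! hcon
    have hp : p.Prime := by
      refine (expChar_is_prime_or_one (IsLocalRing.ResidueField R) p).resolve_right fun h1 => hcon y ?_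
      rw [h1, pow_one, sub_self]
      exact Ideal.zero_mem _
    haveI : Fact p.Prime := ⟨hp⟩
    have hchar : CharP (IsLocalRing.ResidueField R) p := by
      have h : max (ringChar (IsLocalRing.ResidueField R)) 1 = p := hpdef.symm
      have h2 : ringChar (IsLocalRing.ResidueField R) = p := by
        have := hp.two_le
        omega
      exact h2 ▸ ringChar.charP _
    obtain ⟨z, hz⟩ := hroot p hp.pos (y : A)
    let T' : Subalgebra R A := (Algebra.adjoin T ({z} : Set A)).restrictScalars R
    have hTT' : T ≤ T' := fun x hx => coe_mem_adjoin (Algebra.adjoin T ({z} : Set A)) x hx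
    have hT'F : T' ∈ F := by
      intro s hs
      have hP : ∀ x ∈ s, ∃ P : Polynomial T, Polynomial.aeval z P = x := fun x hx => by
        have := hs hx
        rw [SetLike.mem_coe, Subalgebra.mem_restrictScalars, Algebra.adjoin_singleton_eq_range_aeval] at this
        exact this
      choose P hP using hP
      obtain ⟨S, hST, hS, hsS⟩ := hTF (insert (y : A)
        (s.attach.biUnion fun x => (P x.1 x.2).support.image fun i => (((P x.1 x.2).coeff i : T) : A))) (by
        intro a ha
        rw [Finset.mem_coe, Finset.mem_insert, Finset.mem_biUnion] at ha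
        rcases ha with rfl | ⟨x, -, hx⟩
        · exact y.2
        · obtain ⟨i, -, rfl⟩ := Finset.mem_image.mp hx
          exact ((P x.1 x.2).coeff i).2)
      have hyS : (y : A) ∈ S := hsS (Finset.mem_coe.mpr (Finset.mem_insert_self _ _))
      refine ⟨(Algebra.adjoin S ({z} : Set A)).restrictScalars R, adjoin_singleton_mono hST z, ?_,
        fun a ha => ?_⟩
      · refine good_adjoin hπ hp hchar hS ⟨y, hyS⟩ (fun w hw => ?_) z hz
        refine hcon (Subalgebra.inclusion hST w) ?_
        rw [hmax, Ideal.mem_span_singleton]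
        obtain ⟨c, hc⟩ := hw
        refine ⟨Subalgebra.inclusion hST c, ?_⟩
        have := congrArg (Subalgebra.inclusion hST) hc
        rw [map_mul, map_sub, map_pow, AlgHom.commutes] at this
        exact this
      · rw [SetLike.mem_coe, ← hP a ha]
        refine aeval_mem_adjoin_of_coeff z (P a ha) fun i => ?_
        by_cases hi : i ∈ (P a ha).support
        · exact hsS (Finset.mem_coe.mpr (Finset.mem_insert_of_mem (Finset.mem_biUnion.mpr
            ⟨⟨a, ha⟩, Finset.mem_attach _ _, Finset.mem_image_of_mem _ hi⟩)))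
        · rw [Polynomial.notMem_support_iff.mp hi]
          exact S.zero_mem
    have hzT : z ∈ T := (hTmax T' hT'F hTT') ▸
      (show z ∈ T' from Algebra.self_mem_adjoin_singleton T z)
    refine hcon ⟨z, hzT⟩ ?_
    rw [show (⟨z, hzT⟩ : T) ^ p = y from Subtype.ext hz, sub_self]
    exact Ideal.zero_mem _
  · obtain ⟨S, hST, hS, hyS⟩ := hTF {(y : A)} (by simp)
    obtain ⟨n, r, hr⟩ := hS.insep ⟨y, hyS (by simp)⟩
    refine ⟨n, r, ?_⟩
    rw [hmax, Ideal.mem_span_singleton]
    have := map_dvd (Subalgebra.inclusion hST) hr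
    rw [map_sub, map_pow, AlgHom.commutes, AlgHom.commutes] at this
    exact this

end Groth.Agent.H4PerfRes
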